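import Mathlib.AlgebraicGeometry.Morphisms.SchemeTheoreticallyDominant
import Mathlib.AlgebraicGeometry.Morphisms.Immersion
import Mathlib.Topology.LocallyClosed
import Groth.Agent.Lib.SchImage.Reduced
import Groth.Agent.Lib.RedSub.Basic

set_option autoImplicit false
open CategoryTheory CategoryTheory.Limits AlgebraicGeometry TopologicalSpace GrothLib
universe u

namespace SchDense6

variable {X Y : Scheme.{u}}

lemma denseRange_of_std [IsReduced X] (f : X ⟶ Y) [IsSchemeTheoreticallyDominant f] :
    DenseRange f := by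
  rw [DenseRange, dense_iff_closure_eq, ← SchImage.support_ker, f.ker_eq_bot,
    Scheme.IdealSheafData.support_bot, TopologicalSpace.Closeds.coe_top]

lemma isReduced_of_std [IsReduced X] (f : X ⟶ Y) [IsSchemeTheoreticallyDominant f] :
    IsReduced Y := by
  constructor
  intro U
  refine ⟨fun s hs => ?_⟩
  refine Y.IsSheaf.section_ext fun x hx => ?_
  obtain ⟨_, ⟨V, hV, rfl⟩, hxV, hVU⟩ :=
    Y.isBasis_affineOpens.exists_subset_of_mem_open hx U.isOpen
  refine ⟨V, hVU, hxV, ?_⟩
  rw [map_zero]
  have h1 : IsNilpotent (f.app V (Y.presheaf.map (homOfLE hVU).op s)) := (hs.map _).map _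
  have h2 : Y.presheaf.map (homOfLE hVU).op s ∈ RingHom.ker (f.app V).hom :=
    RingHom.mem_ker.mpr h1.eq_zero
  rw [← SchImage.ideal_ker f ⟨V, hV⟩, f.ker_eq_bot] at h2
  rw [Scheme.IdealSheafData.ideal_bot, Pi.bot_apply, Ideal.mem_bot] at h2
  exact h2

lemma std_homOfLE_of_dense [IsReduced X] (O W : X.Opens) (hO : Dense (O : Set X)) :
    IsSchemeTheoreticallyDominant (X.homOfLE (inf_le_right : O ⊓ W ≤ W)) := by
  have hdd : DenseRange (X.homOfLE (inf_le_right : O ⊓ W ≤ W)) := by
    have hr : Set.range (X.homOfLE (inf_le_right : O ⊓ W ≤ W)) = W.ι ⁻¹' (O : Set X) := by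
      ext y
      constructor
      · rintro ⟨x, rfl⟩
        show W.ι (X.homOfLE _ x) ∈ O
        rw [← Scheme.Hom.comp_apply, Scheme.homOfLE_ι]
        exact x.2.1
      · intro hy
        refine ⟨⟨W.ι y, hy, y.2⟩, W.ι.isOpenEmbedding.injective ?_⟩
        rw [← Scheme.Hom.comp_apply, Scheme.homOfLE_ι]
        rfl
    rw [DenseRange, hr]
    exact hO.preimage W.ι.isOpenEmbedding.isOpenMap
  have : IsDominant (X.homOfLE (inf_le_right : O ⊓ W ≤ W)) := ⟨hdd⟩
  exact .of_isDominant _

lemma std_ι_of_forall (U : X.Opens)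
    (h : ∀ W : X.Opens, IsSchemeTheoreticallyDominant (X.homOfLE (inf_le_right : U ⊓ W ≤ W))) :
    IsSchemeTheoreticallyDominant U.ι := by
  have := h ⊤
  have e : U.ι = (X.isoOfEq (inf_top_eq U)).inv ≫
      X.homOfLE (inf_le_right : U ⊓ ⊤ ≤ ⊤) ≫ (⊤ : X.Opens).ι := by simp
  rw [e]
  have : IsIso (⊤ : X.Opens).ι := X.topIso.isIso_hom
  infer_instance

lemma std_homOfLE_of_quasiCompact (O W : X.Opens) [QuasiCompact O.ι]
    [IsSchemeTheoreticallyDominant O.ι] :
    IsSchemeTheoreticallyDominant (X.homOfLE (inf_le_right : O ⊓ W ≤ W)) :=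
  IsSchemeTheoreticallyDominant.of_isPullback (isPullback_opens_inf O W)

variable {Z : Scheme.{u}} (h : Z ⟶ X)

lemma denseRange_toImage_of_isReduced [IsReduced Z] : DenseRange h.toImage := by
  rw [DenseRange, dense_iff_closure_eq, h.imageι.isEmbedding.isInducing.closure_eq_preimage_closure_image,
    ← Set.range_comp]
  have : h.imageι ∘ h.toImage = h := by
    funext z
    rw [Function.comp_apply, ← Scheme.Hom.comp_apply, h.toImage_imageι]
  rw [this, ← SchImage.support_ker, Set.eq_univ_iff_forall]
  intro z
  show h.imageι z ∈ (h.ker.support : Set X)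
  rw [← Scheme.IdealSheafData.range_subschemeι]
  exact ⟨z, rfl⟩

lemma isReduced_image [IsReduced Z] : IsReduced h.image := by
  show IsReduced h.ker.subscheme
  rw [SchImage.ker_eq_vanishingIdeal]
  exact RedSub.isReduced_subscheme_vanishingIdeal _

lemma isOpenImmersion_toImage [IsImmersion h] (hyp : QuasiCompact h ∨ IsReduced Z) :
    IsOpenImmersion h.toImage := by
  rcases hyp with hq | hr
  · infer_instance
  · have := isReduced_image h
    apply RedSub.isOpenImmersion_of_isOpen_range
    have h1 : IsLocallyClosed (Set.range h.toImage) := IsImmersion.isLocallyClosed_range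
    have h2 := h1.isOpen_coborder
    rwa [coborder_eq_union_closure_compl, (denseRange_toImage_of_isReduced h).closure_eq,
      Set.compl_univ, Set.union_empty] at h2

lemma std_toImage [QuasiCompact h] : IsSchemeTheoreticallyDominant h.toImage := by
  refine ⟨?_⟩
  ext U : 2
  rw [Scheme.Hom.ker_apply, Scheme.IdealSheafData.ideal_bot, Pi.bot_apply,
    ← RingHom.injective_iff_ker_eq_bot, injective_iff_map_eq_zero]
  intro s hs
  apply TopCat.Presheaf.section_ext h.image.sheaf U.1 s 0
  intro x hx
  apply h.stalkFunctor_toImage_injective x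
  refine Eq.trans ?_ (congrArg _ (map_zero (h.image.presheaf.germ U.1 x hx).hom)).symm
  refine Eq.trans ?_ (map_zero ((TopCat.Presheaf.stalkFunctor CommRingCat x).map h.toImage.c).hom).symm
  refine (TopCat.Presheaf.stalkFunctor_map_germ_apply U.1 x hx h.toImage.c s).trans ?_
  exact (congrArg _ hs).trans (map_zero _)

lemma main [IsImmersion h] (hyp : QuasiCompact h ∨ IsReduced Z) :
    ∃ hI : IsOpenImmersion h.toImage,
      (∀ W : h.image.Opens, IsSchemeTheoreticallyDominant
          (h.image.homOfLE (inf_le_right : @Scheme.Hom.opensRange _ _ h.toImage hI ⊓ W ≤ W))) ∧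
        DenseRange h.toImage.base := by
  have hI := isOpenImmersion_toImage h hyp
  refine ⟨hI, fun W => ?_, ?_⟩
  · rcases hyp with hq | hr
    · have := std_toImage h
      have e : h.toImage.opensRange.ι = h.toImage.isoOpensRange.inv ≫ h.toImage :=
        (Scheme.Hom.isoOpensRange_inv_comp _).symm
      have : IsSchemeTheoreticallyDominant h.toImage.opensRange.ι := by
        rw [e]; infer_instance
      have : QuasiCompact h.toImage.opensRange.ι := by
        rw [e]; infer_instance
      exact std_homOfLE_of_quasiCompact _ _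
    · have := isReduced_image h
      exact std_homOfLE_of_dense _ _ (denseRange_toImage_of_isReduced h)
  · rcases hyp with hq | hr
    · exact (inferInstance : IsDominant h.toImage).denseRange
    · exact denseRange_toImage_of_isReduced h

end SchDense6
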